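import Groth.Agent.H22Alg.ProjDim2
import Groth.Agent.H26Smooth.ProjSmooth
import Groth.Agent.H28Neron.Extend
import Groth.Agent.H29Ref.Hartogs
import Groth.Agent.H17.Dim
import Groth.Prelude.Def_Pi1

/-!
# The projective line as a normal curve
-/

set_option autoImplicit false
set_option linter.style.haveILetI false
universe u

open CategoryTheory CategoryTheory.Limits AlgebraicGeometry TopologicalSpace

namespace Groth.Agent.H28Curve

variable (k : Type u) [Field k]

theorem projLine_facts :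
    IsIntegral (CohB1.ProjSpace 1 k) ∧ Pi1.IsNormalScheme (CohB1.ProjSpace 1 k) ∧
      topologicalKrullDim ↥(CohB1.ProjSpace 1 k) = ((1 : ℕ) : WithBot ℕ∞) := by
  obtain ⟨x, hx, hq⟩ := H22Alg.ProjDim.exists_bot_point k 1
  have h : closure ({x} : Set (ProjectiveSpectrum (CohB1.polyGrading 1 k))) = Set.univ :=
    Set.eq_univ_of_forall fun y => (ProjectiveSpectrum.le_iff_mem_closure _ x y).mp
      (show x.asHomogeneousIdeal.toIdeal ≤ y.asHomogeneousIdeal.toIdeal from hx ▸ bot_le)
  have hirr : IsIrreducible (Set.univ : Set ↥(CohB1.ProjSpace 1 k)) := by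
    have h' := (isIrreducible_singleton (x := x)).closure
    rwa [h] at h'
  haveI : PreirreducibleSpace ↥(CohB1.ProjSpace 1 k) := ⟨hirr.2⟩
  haveI : IrreducibleSpace ↥(CohB1.ProjSpace 1 k) := ⟨⟨x⟩⟩
  haveI : Smooth (CohB1.ProjSpace.toSpec 1 k) := H26Smooth.smooth_toSpec 1 k
  haveI : IsReduced (CohB1.ProjSpace 1 k) := H28Neron.isReduced_of_smooth (CohB1.ProjSpace.toSpec 1 k)
  refine ⟨isIntegral_of_irreducibleSpace_of_isReduced _,
    H29Ref.isNormalScheme_of_regular fun y => H28Neron.isRegularLocalRing_stalk_of_smooth (CohB1.ProjSpace.toSpec 1 k) y, ?_⟩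
  have h1 := H22Alg.ProjDim.dim_closure k 1 x
  rw [h, hq, Nat.add_sub_cancel] at h1
  rw [← h1]
  exact (IsHomeomorph.topologicalKrullDim_eq _ (Homeomorph.Set.univ _).isHomeomorph).symm

end Groth.Agent.H28Curve
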