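import Groth.Agent.H29RR.RiemannRoch
import Groth.Agent.H29RR.Clifford
import Groth.Agent.H06Mod.StalkExact

/-!
# The zero of a section of an invertible module of degree one
-/

set_option autoImplicit false
set_option linter.style.haveILetI false
set_option backward.isDefEq.respectTransparency.types false
universe u

open CategoryTheory CategoryTheory.Limits AlgebraicGeometry Opposite TopologicalSpace
open Groth.Agent.H11Ample (gen mem_gen_iff)

namespace Groth.Agent.H28Curve

variable {k : Type u} [Field k] {X : Scheme.{u}} [X.Over (Spec (CommRingCat.of k))]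
  [IsProper (X ↘ Spec (CommRingCat.of k))] [IsIntegral X]

/-- A nonzero section of an invertible module of degree one vanishes at one point, simply and rationally. -/
theorem exists_zero (hdim : topologicalKrullDim X ≤ 1) {L : X.Modules} (hL : PicF.IsInvertible L)
    (hdeg : Curv2.deg k X L 1 = 1) {g : Γ(L, ⊤)} (hg : g ≠ 0) :
    ∃ x : X, IsClosed ({x} : Set X) ∧ (∀ y, y ∈ gen L g ↔ y ≠ x) ∧
      (∀ m : Γ(L, ⊤), (∃ c : X.presheaf.stalk x, L.presheaf.germ ⊤ x trivial m = c • L.presheaf.germ ⊤ x trivial g) →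
        ∃ c : Γ(X, ⊤), m = c • g) ∧
      ∃ v₀ : L.presheaf.stalk x, (∀ c : X.presheaf.stalk x, v₀ ≠ c • L.presheaf.germ ⊤ x trivial g) ∧
        ∀ v, ∃ (a : k) (c : X.presheaf.stalk x),
          v = H25Par.constStalk (k := k) x a • v₀ + c • L.presheaf.germ ⊤ x trivial g := by
  classical
  haveI := H29RR.isNoetherian_of_proper (k := k) (X := X)
  have hLc : Coh.IsCoh L := H16Derived.KFlat.Stalk.isCoh_of_isFinLocFree (H28Pinch.isFinLocFree_of_isInvertible hL)
  obtain ⟨hmono, hη⟩ := H29RR.mono_homOfGlobal hL hg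
  let s := H11Tilde.homOfGlobal L g
  haveI : Mono s := hmono
  obtain ⟨hC, hfin, hcl, he⟩ := H29RR.euler_sub_of_mono (k := k) hdim (H10Coh.isCoh_structureModule' X) hLc s hη
  have h1 : Module.finrank k (Coh.HH X (cokernel s) 0) = 1 := by
    have := H29RR.deg_def (k := k) L
    omega
  let S := ShortComplex.mk s (cokernel.π s) (cokernel.condition s)
  have hS : S.ShortExact := { exact := ShortComplex.exact_cokernel _ }
  let γ : ∀ y, L.presheaf.stalk y := fun y => L.presheaf.germ ⊤ y trivial g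
  have hs : ∀ y (v : (Coh.structureModule X).presheaf.stalk y), ∃ c : X.presheaf.stalk y,
      H06Mod.stalkLin s y v = c • γ y := by
    intro y v
    obtain ⟨W, hW, r, rfl⟩ := (Coh.structureModule X).presheaf.exists_germ_eq v
    refine ⟨X.presheaf.germ W y hW (show Γ(X, W) from r), ?_⟩
    rw [H06Mod.stalkLin_germ]
    erw [H11Tilde.homOfGlobal_app, H17.AssPts.germ_smul']
    exact congrArg _ (TopCat.Presheaf.germ_res_apply L.presheaf _ _ _ _)
  have hs' : ∀ y (c : X.presheaf.stalk y), c • γ y ∈ Set.range (H06Mod.stalkLin s y) := by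
    intro y c
    obtain ⟨W, hW, r, rfl⟩ := X.presheaf.exists_germ_eq c
    refine ⟨(Coh.structureModule X).presheaf.germ W y hW (show Γ(Coh.structureModule X, W) from r), ?_⟩
    rw [H06Mod.stalkLin_germ]
    erw [H11Tilde.homOfGlobal_app, H17.AssPts.germ_smul']
    exact congrArg _ (TopCat.Presheaf.germ_res_apply L.presheaf _ _ _ _)
  have hker : ∀ y (v : L.presheaf.stalk y),
      H06Mod.stalkLin (cokernel.π s) y v = 0 ↔ ∃ c : X.presheaf.stalk y, v = c • γ y := by
    intro y v
    refine ((H06Mod.stalk_exact S hS y) v).trans ⟨?_, ?_⟩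
    · rintro ⟨w, rfl⟩
      exact hs y w
    · rintro ⟨c, rfl⟩
      exact hs' y c
  have hsurj : ∀ y, Function.Surjective (H06Mod.stalkLin (cokernel.π s) y) := fun y =>
    H06Mod.stalk_surjective S hS y
  have hgen : ∀ y, y ∈ gen L g ↔ y ∉ CohB1.support (cokernel s) := by
    intro y
    constructor
    · intro hy hmem
      refine hmem ?_
      refine subsingleton_of_forall_eq 0 fun q => ?_
      obtain ⟨v, rfl⟩ := hsurj y q
      exact (hker y v).2 (let ⟨c, hc⟩ := ((mem_gen_iff hL g y).1 hy).2 v; ⟨c, hc.symm⟩)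
    · intro hy
      have hsub : Subsingleton ((cokernel s).presheaf.stalk y) := not_not.1 hy
      refine (mem_gen_iff hL g y).2 ?_
      have hsur : Function.Surjective fun r : X.presheaf.stalk y => r • γ y := fun v => by
        obtain ⟨c, hc⟩ := (hker y v).1 (hsub.elim _ _)
        exact ⟨c, hc.symm⟩
      obtain ⟨hf, hfn, hr⟩ := H25Par.finrank_stalk (H29RR.rank_one_of_isInvertible hL) y
      haveI := hf; haveI := hfn
      let e := LinearEquiv.ofFinrankEq (R := X.presheaf.stalk y) (L.presheaf.stalk y) (X.presheaf.stalk y)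
        (hr.trans (Module.finrank_self _).symm)
      obtain ⟨c, hc⟩ := hsur (e.symm 1)
      have hu : c * e (γ y) = 1 := by
        rw [← smul_eq_mul, ← map_smul, show c • γ y = e.symm 1 from hc, LinearEquiv.apply_symm_apply]
      refine ⟨fun a b hab => ?_, hsur⟩
      have h2 := congrArg e (show a • γ y = b • γ y from hab)
      rw [map_smul, map_smul, smul_eq_mul, smul_eq_mul] at h2
      exact (IsUnit.of_mul_eq_one c ((mul_comm _ _).trans hu)).mul_right_cancel h2
  let Sup := CohB1.support (cokernel s)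
  have hb := H25Par.germs_bijective (k := k) (cokernel s) hfin hcl (fun y hy => not_not.1 hy)
  let E := LinearEquiv.ofBijective _ hb
  have hd : Module.finrank k (∀ y : Sup, H25Par.Stk k (cokernel s) y.1) = 1 := E.finrank_eq ▸ h1
  haveI : Nontrivial (∀ y : Sup, H25Par.Stk k (cokernel s) y.1) :=
    Module.nontrivial_of_finrank_eq_succ (n := 0) hd
  obtain ⟨x, hx⟩ : ∃ x, x ∈ Sup := by
    by_contra hne
    push Not at hne
    haveI : IsEmpty Sup := ⟨fun y => hne y.1 y.2⟩
    exact not_subsingleton (∀ y : Sup, H25Par.Stk k (cokernel s) y.1) inferInstance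
  obtain ⟨q₀, hq₀⟩ : ∃ q : H25Par.Stk k (cokernel s) x, q ≠ 0 := by
    by_contra hne
    push Not at hne
    exact hx (subsingleton_of_forall_eq (0 : H25Par.Stk k (cokernel s) x) hne)
  let F := Function.update (0 : ∀ y : Sup, H25Par.Stk k (cokernel s) y.1) ⟨x, hx⟩ q₀
  have hF : F ≠ 0 := fun h => hq₀ (by simpa [F] using congrFun h ⟨x, hx⟩)
  have hall : ∀ v : ∀ y : Sup, H25Par.Stk k (cokernel s) y.1, ∃ a : k, a • F = v :=
    (finrank_eq_one_iff_of_nonzero' F hF).1 hd
  have hone : ∀ y ∈ Sup, y = x := by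
    intro y hy
    by_contra hne
    obtain ⟨q, hq⟩ : ∃ q : H25Par.Stk k (cokernel s) y, q ≠ 0 := by
      by_contra h
      push Not at h
      exact hy (subsingleton_of_forall_eq (0 : H25Par.Stk k (cokernel s) y) h)
    obtain ⟨a, ha⟩ := hall (Function.update 0 ⟨y, hy⟩ q)
    refine hq ?_
    have h := congrFun ha ⟨y, hy⟩
    simp only [Pi.smul_apply, F] at h
    rw [Function.update_of_ne (fun e => hne (congrArg Subtype.val e)), Pi.zero_apply, smul_zero,
      Function.update_self] at h
    exact h.symm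
  obtain ⟨v₀, hv₀⟩ := hsurj x q₀
  refine ⟨x, hcl x hx, fun y => (hgen y).trans ⟨fun h e => h (e ▸ hx), fun h hy => h (hone y hy)⟩,
    fun m hm => ?_, v₀, fun c hc => hq₀ (hv₀.symm.trans ((hker x v₀).2 ⟨c, hc⟩)), fun v => ?_⟩
  · have h0 : (cokernel.π s).app ⊤ m = 0 := by
      refine TopCat.Presheaf.section_ext (H10Coh.sh (cokernel s)) (⊤ : X.Opens) _ _ fun y hy => ?_
      refine Eq.trans ?_ (map_zero ((cokernel s).presheaf.germ ⊤ y trivial).hom).symm
      show (cokernel s).presheaf.germ ⊤ y trivial ((cokernel.π s).app ⊤ m) = 0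
      rw [← H06Mod.stalkLin_germ]
      by_cases hyx : y = x
      · subst hyx
        exact (hker y _).2 hm
      · exact (not_not.1 fun h => hyx (hone y h) : Subsingleton ((cokernel s).presheaf.stalk y)).elim _ _
    obtain ⟨r, hr⟩ := (H06Mod.exact_sections S hS ⊤).2 m h0
    refine ⟨(show Γ(X, ⊤) from r), hr.symm.trans ?_⟩
    erw [H11Tilde.homOfGlobal_app]
    refine congrArg _ ?_
    show L.presheaf.map (homOfLE (le_top : (⊤ : X.Opens) ≤ ⊤)).op g = g
    rw [Subsingleton.elim (homOfLE (le_top : (⊤ : X.Opens) ≤ ⊤)) (𝟙 _)]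
    simp
  obtain ⟨a, ha⟩ := hall (Function.update 0 ⟨x, hx⟩ (H06Mod.stalkLin (cokernel.π s) x v))
  have h := congrFun ha ⟨x, hx⟩
  simp only [Pi.smul_apply, F, Function.update_self] at h
  have h2 : H06Mod.stalkLin (cokernel.π s) x (v - H25Par.constStalk (k := k) x a • v₀) = 0 := by
    rw [map_sub, map_smul, hv₀, sub_eq_zero]
    exact h.symm
  obtain ⟨c, hc⟩ := (hker x _).1 h2
  exact ⟨a, c, by rw [← hc, add_sub_cancel]⟩

end Groth.Agent.H28Curve
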